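import Groth.Prelude
import Groth.Agent.S0843
import Groth.Agent.S0844
import Groth.Agent.S0845
import Groth.Agent.Curves16.HomogDim

/-!
# Dimensions of the cohomology of `O(n)` on projective space over a field
-/

universe u

open CategoryTheory AlgebraicGeometry
open Coherent

namespace Groth.Agent.Coh43

variable (k : Type u) [Field k] (r : ℕ)

/-- `dim H^q(P^r, O(n))`. -/
noncomputable def hP (n : ℤ) (q : ℕ) : ℕ :=
  Module.finrank k (Coh.HH (CohB1.ProjSpace r k) (Twist.twistProjSpace r k n) q)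

theorem finrank_homog (m : ℕ) :
    Module.finrank k ↥(MvPolynomial.homogeneousSubmodule (Fin (r + 1)) k m) = (r + m).choose m := by
  rw [Curves16.finrank_forms k (r + 1) m]
  congr 1
  omega

theorem hP_zero_nat (m : ℕ) : hP k r (m : ℤ) 0 = (m + r).choose r := by
  obtain ⟨φ⟩ := S0843.result k r m
  rw [hP, φ.finrank_eq, finrank_homog, Nat.add_comm m r, Nat.choose_symm_add]

theorem hP_top_nat (m : ℕ) : hP k r (-((r : ℤ) + 1 + m)) r = (m + r).choose r := by
  obtain ⟨φ⟩ := S0845.result k r m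
  rw [hP, φ.finrank_eq, finrank_homog, Nat.add_comm m r, Nat.choose_symm_add]

theorem subsingleton_of_ne {n : ℤ} {q : ℕ} (h0 : ¬(q = 0 ∧ 0 ≤ n))
    (h1 : ¬(q = r ∧ n ≤ -((r : ℤ) + 1))) :
    Subsingleton (Coh.HH (CohB1.ProjSpace r k) (Twist.twistProjSpace r k n) q) :=
  S0844.result k r n q h0 h1

theorem hP_eq_zero {n : ℤ} {q : ℕ} (h0 : ¬(q = 0 ∧ 0 ≤ n))
    (h1 : ¬(q = r ∧ n ≤ -((r : ℤ) + 1))) : hP k r n q = 0 := by
  haveI := subsingleton_of_ne k r h0 h1
  exact Module.finrank_zero_of_subsingleton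

theorem finite_HH_twist (n : ℤ) (q : ℕ) :
    Module.Finite k (Coh.HH (CohB1.ProjSpace r k) (Twist.twistProjSpace r k n) q) := by
  by_cases h0 : q = 0 ∧ 0 ≤ n
  · obtain ⟨rfl, hn⟩ := h0
    obtain ⟨m, rfl⟩ := Int.eq_ofNat_of_zero_le hn
    exact Module.finite_of_finrank_pos (R := k) (by
      have := hP_zero_nat k r m
      rw [hP] at this
      rw [this]
      exact Nat.choose_pos (Nat.le_add_left r m))
  by_cases h1 : q = r ∧ n ≤ -((r : ℤ) + 1)
  · obtain ⟨h, hn⟩ := h1
    subst q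
    obtain ⟨m, hm⟩ := Int.eq_ofNat_of_zero_le (show 0 ≤ -((r : ℤ) + 1) - n by omega)
    obtain rfl : n = -((r : ℤ) + 1 + m) := by omega
    exact Module.finite_of_finrank_pos (R := k) (by
      have := hP_top_nat k r m
      rw [hP] at this
      rw [this]
      exact Nat.choose_pos (Nat.le_add_left r m))
  haveI := subsingleton_of_ne k r h0 h1
  infer_instance

/-- `h^0` as a truncated binomial (no hypothesis on the sign of `n`). -/
theorem hP_zero (hr : 0 < r) (n : ℤ) : hP k r n 0 = (n + r).toNat.choose r := by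
  by_cases hn : 0 ≤ n
  · obtain ⟨m, rfl⟩ := Int.eq_ofNat_of_zero_le hn
    rw [hP_zero_nat]
    congr 1
  · rw [hP_eq_zero k r (fun h => hn h.2) (fun h => by omega), Nat.choose_eq_zero_of_lt]
    omega

/-- `h^r` as a truncated binomial. -/
theorem hP_top (hr : 0 < r) (n : ℤ) : hP k r n r = (-n - 1).toNat.choose r := by
  by_cases hn : n ≤ -((r : ℤ) + 1)
  · obtain ⟨m, hm⟩ := Int.eq_ofNat_of_zero_le (show 0 ≤ -((r : ℤ) + 1) - n by omega)
    obtain rfl : n = -((r : ℤ) + 1 + m) := by omega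
    rw [hP_top_nat]
    congr 1
    omega
  · rw [hP_eq_zero k r (fun h => by omega) (fun h => hn h.2), Nat.choose_eq_zero_of_lt]
    omega

end Groth.Agent.Coh43
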